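import Cfsg.Agent.L10.Base

/-!
# S3320: more named subgroups of the model; the configurations of PART 4
-/

set_option autoImplicit false

namespace Cfsg.Agent.L10

open Cfsg Cfsg.Agent.Comp Cfsg.Agent.He5 Cfsg.Agent.R24 Subgroup

instance inT_C : InT 33005565 := ⟨by decide⟩
instance inT_S0 : InT 33004643 := ⟨by decide⟩
instance inT_R : InT 33528931 := ⟨by decide⟩
instance inT_A10 : InT 33529063 := ⟨by decide⟩
instance inT_W1 : InT 33553639 := ⟨by decide⟩
instance inT_F : InT 33529853 := ⟨by decide⟩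

/-- `C = E0 ⟨r, x23, x24, x34⟩`, a complement to `Q` in `T`, order `128` -/
abbrev mC : Subgroup Mo := pat 3248062 33005565
/-- `S0 = P ⟨x23, x24, x34⟩`, of index two in `T` (`r ∉ S0`) -/
abbrev mS0 : Subgroup Mo := pat 0 33004643
/-- `S1 = P K3`, order `2^16 · 168` -/
abbrev mS1 : Subgroup Mo := pat 0 3247203
/-- `R = Q ⟨x23, x24⟩`, order `2^15` -/
abbrev mR : Subgroup Mo := pat 13262848 33528931
/-- `A10 = ⟨e01, e02, e12⟩ × ⟨x_ij : i < 3 ≤ j⟩`, elementary abelian of order `2^9` -/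
abbrev mA10 : Subgroup Mo := pat 33551193 33529063
/-- `W1 = A10 ∩ Q`, order `2^7` -/
abbrev mW1 : Subgroup Mo := pat 33551193 33553639
/-- `F = ⟨r, x23, x24, e23, e24⟩`, the unique elementary abelian subgroup of order `32` of `C` -/
abbrev mF : Subgroup Mo := pat 12160958 33529853

theorem card_mC : Nat.card mC = 128 := (card_pat _).trans (by decide +kernel)
theorem card_mS0 : Nat.card mS0 = 2 ^ 19 := (card_pat _).trans (by decide +kernel)
theorem card_mR : Nat.card mR = 2 ^ 15 := (card_pat _).trans (by decide +kernel)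
theorem card_mA10 : Nat.card mA10 = 512 := (card_pat _).trans (by decide +kernel)
theorem card_mW1 : Nat.card mW1 = 128 := (card_pat _).trans (by decide +kernel)
theorem card_mF : Nat.card mF = 32 := (card_pat _).trans (by decide +kernel)

/-- one Pfaffian -/
noncomputable def pf (a i j k l : ℕ) : ℕ :=
  Nat.land (Nat.xor (Nat.xor
    (Nat.land (Nat.shiftRight a (5 * i + j)) (Nat.shiftRight a (5 * k + l)))
    (Nat.land (Nat.shiftRight a (5 * i + k)) (Nat.shiftRight a (5 * j + l))))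
    (Nat.land (Nat.shiftRight a (5 * i + l)) (Nat.shiftRight a (5 * j + k)))) 1

/-- the alternating code `a` has rank two -/
noncomputable def rk2 (a : ℕ) : Bool := force a fun a => and' (not' (Nat.beq a 0))
  (Nat.beq (Nat.lor (Nat.lor (Nat.lor (Nat.lor (pf a 0 1 2 3) (pf a 0 1 2 4)) (pf a 0 1 3 4))
    (pf a 0 2 3 4)) (pf a 1 2 3 4)) 0)

/-- `y' = x34 x43`, of order three -/
noncomputable def my' : Mo := xx 3 4 * xx 4 3
/-- an element of order seven of `⟨x01, x10, x12, x21⟩` -/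
noncomputable def mrho : Mo := xx 0 1 * xx 1 2 * xx 2 0
/-- the reflection `(2 3)` -/
noncomputable def mn3 : Mo := xx 2 3 * xx 3 2 * xx 2 3

/-- generators of `Q` -/
def Qg : List Mo := [ee 0 1, ee 0 2, ee 0 3, ee 0 4, ee 1 2, ee 1 3, ee 1 4,
  xx 0 2, xx 0 3, xx 0 4, xx 1 2, xx 1 3, xx 1 4]

/-- generators of `L₃(2) × L₂(2)` on `⟨e0, e1, e2⟩ ⊕ ⟨e3, e4⟩` -/
def Lg : List Mo := [xx 0 1, xx 1 0, xx 1 2, xx 2 1, xx 3 4, xx 4 3]

variable {G : Type*} [Group G]

/-- `H = C(s)` -/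
abbrev cH (φ : Mo →* G) : Subgroup G := centralizer {φ ms}

/-- the normal closure of `P = A Q` in `H` -/
noncomputable def K0 (φ : Mo →* G) : Subgroup G := ncl (cH φ) (mP.map φ)

/-- Case I with `Q` large -/
structure C1 (φ : Mo →* G) : Prop extends Cas1 φ where
  lx : TT.LX (mQ.map φ) (φ ms)

/-- ... and `H ≰ M` -/
structure Cx (φ : Mo →* G) : Prop extends C1 φ where
  nH : ¬ cH φ ≤ φ.range

/-- the missing negative root element -/
structure Gg (φ : Mo →* G) (g : G) : Prop where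
  sq : g * g = 1
  out : g ∉ φ.range
  mem : g ∈ K0 φ
  cA : ∀ a ∈ mA10, g * φ a = φ a * g
  cL : ∀ k ∈ Lg, g * φ k = φ k * g
  e24 : g * φ (ee 2 4) * g = φ (ee 2 4 * xx 2 3)

end Cfsg.Agent.L10
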