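import Cfsg.Agent.L10.J1

/-! # S3320, PART 2a: finite checks for the normaliser of `J` -/

set_option autoImplicit false

namespace Cfsg.Agent.L10

open Cfsg Cfsg.Agent.Comp Cfsg.Agent.He5 Cfsg.Agent.R24 Subgroup

/-- some transvections of `L₄(2)` -/
def lK : List Mo := [
  mo 0 16814152 16814152, mo 0 17040452 17040452, mo 0 17204292 17204292, mo 0 17043490 17043490,
  mo 0 17141794 17141794, mo 0 17046562 17046562, mo 0 17144866 17144866, mo 0 17043521 17043521,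
  mo 0 17076289 17076289, mo 0 17044545 17044545, mo 0 17077313 17077313, mo 0 17043553 17043553,
  mo 0 17076321 17076321, mo 0 17044577 17044577, mo 0 17077345 17077345, mo 0 16847105 16847105,
  mo 0 17041537 17041537, mo 0 17238145 17238145, mo 0 17109057 17109057, mo 0 17045569 17045569,
  mo 0 17111105 17111105, mo 0 16847115 16847115, mo 0 17041543 17041543, mo 0 17238151 17238151,
  mo 0 17043523 17043523, mo 0 17109059 17109059, mo 0 17045571 17045571, mo 0 17111107 17111107,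
  mo 0 16916545 16916545, mo 0 17174593 17174593, mo 0 16916929 16916929, mo 0 17043649 17043649,
  mo 0 17174721 17174721, mo 0 16916557 16916557, mo 0 17043525 17043525, mo 0 17174597 17174597,
  mo 0 16916941 16916941, mo 0 17043653 17043653, mo 0 17174725 17174725, mo 0 17051713 17051713,
  mo 0 17043777 17043777, mo 0 17051969 17051969, mo 0 17043529 17043529, mo 0 17051721 17051721,
  mo 0 17043785 17043785, mo 0 17051977 17051977]

/-- a Singer cycle of `L₄(2)` -/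
def sgr : Mo := mo 0 16812204 17148040
/-- its fourth power -/
def sgr4 : Mo := mo 0 17078509 17245606
def sd2 : Mo := mo 4310318 17059905 17059905

theorem sgr_mem : sgr ∈ mL4 := by decide +kernel
theorem sgr4_eq : sgr4 = sgr * sgr * sgr * sgr := by decide +kernel

/-- `a` is killed by the minimal polynomial of the Singer cycle on `U` -/
def Kil (a : Mo) : Prop := a * (sgr * a * sgr⁻¹) * (sgr4 * a * sgr4⁻¹) = 1

noncomputable instance instDecKil (a : Mo) : Decidable (Kil a) := by unfold Kil; infer_instance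

/-- the indices below `i` -/
def lw (i : Fin 5) : List (Fin 5) := (List.finRange 5).filter (· < i)

set_option synthInstance.maxSize 2000 in
theorem step_chk : ∀ i : Fin 5, i ≠ 4 → ∀ e ∈ lE, ∀ b ∈ lB, e * b ∈ mA2 →
    (∃ x ∈ prods ((lw i).map (ee · 4)), x = e) ∨
      ∃ k ∈ lK, k ∈ mL4 ∧ k * b * k⁻¹ = xx i 4 ∧ ∀ j : Fin 5, j < i → k * xx j 4 * k⁻¹ = xx j 4 := by
  decide +kernel

theorem kil_gen : ∀ i : Fin 5, i ≠ 4 → Kil (ee i 4) ∧ Kil (xx i 4) := by decide +kernel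

theorem sgr_fpf : ∀ j ∈ mJ, j * sgr = sgr * j → j = 1 := by decide +kernel

theorem kil_A1 : ∀ i : Fin 5, i ≠ 4 → ∀ z ∈ lZ, Kil (z * xx i 4) → z = 1 := by decide +kernel

theorem kil_A : ∀ i : Fin 5, i ≠ 4 → ∀ z ∈ lZ, Kil (z * ee i 4) → z = 1 := by decide +kernel

theorem kil_A2 : ∀ z ∈ lZ, Kil (z * cc 2) → z * cc 2 = sd2 := by decide +kernel

theorem nj_chk : ∀ j ∈ mJ, j * xx 0 1 * sd2 ≠ sd2 * (j * xx 0 1) := by decide +kernel

set_option synthInstance.maxSize 2000 in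
theorem lev_chk : ∀ j ∈ mJ, (∀ b ∈ [xx 0 4, xx 1 4, xx 2 4, xx 3 4], j * b * j⁻¹ ∈ mB) →
    (∀ e ∈ [ee 0 4, ee 1 4, ee 2 4, ee 3 4], j * e * j⁻¹ ∈ mE4) → j ∈ mZ := by decide +kernel

theorem ee_comm : ∀ i j : Fin 5, i ≠ 4 → j ≠ 4 →
    ee i j = ee i 4 * xx j 4 * (ee i 4)⁻¹ * (xx j 4)⁻¹ ∧
      ee i j = xx i 4 * ee j 4 * (xx i 4)⁻¹ * (ee j 4)⁻¹ := by decide +kernel

theorem A_ne : ee 0 4 ∉ mA1 ∧ ee 0 4 ∉ mA2 ∧ xx 0 4 ∉ mA2 ∧ xx 0 1 * ee 2 4 = ee 2 4 * xx 0 1 ∧
    xx 0 1 ∈ mL4 := by decide +kernel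

end Cfsg.Agent.L10
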