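import Cfsg.Agent.Comp.Basic

/-! # S3320, PART 3: the table of elementary abelian subgroups of `P/Q` acting on `Q/⟨s⟩ = F₂¹²`. -/

set_option autoImplicit false

namespace Cfsg.Agent.L10

open Cfsg.Agent.Comp

/-- the sum of the columns `c j`, `j < k`, selected by `v` -/
noncomputable def apk (c : ℕ → ℕ) (v k : ℕ) : ℕ :=
  Nat.rec (motive := fun _ => ℕ) (nat_lit 0) (fun j ih => ite' (tb v j) (Nat.xor (c j) ih) ih) k

/-- column `j` of a packed `12 × 12` matrix -/
def col (M j : ℕ) : ℕ := Nat.land (Nat.shiftRight M (Nat.mul (nat_lit 12) j)) (nat_lit 4095)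

/-- a packed matrix applied to a vector -/
noncomputable def am (M v : ℕ) : ℕ := force M fun M => force v fun v => apk (col M) v (nat_lit 12)

theorem am_eq (M v : ℕ) : am M v = apk (col M) v 12 := by simp only [am, force_eq]

theorem apk_zero (c : ℕ → ℕ) (v : ℕ) : apk c v 0 = 0 := rfl

theorem apk_succ (c : ℕ → ℕ) (v k : ℕ) :
    apk c v (k + 1) = (if v.testBit k then c k else 0) ^^^ apk c v k := by
  change ite' (tb v k) (c k ^^^ apk c v k) (apk c v k) = _
  rw [tb_eq]; cases v.testBit k <;> simp

theorem apk_xor (c : ℕ → ℕ) (v w k : ℕ) : apk c (v ^^^ w) k = apk c v k ^^^ apk c w k := by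
  induction k with
  | zero => simp [apk_zero]
  | succ k ih =>
    simp only [apk_succ, ih, Nat.testBit_xor]
    cases v.testBit k <;> cases w.testBit k <;> simp [Nat.xor_assoc, Nat.xor_left_comm]

theorem apk_congr {c c' : ℕ → ℕ} {v w k : ℕ} (h : ∀ j < k, v.testBit j = w.testBit j)
    (h' : ∀ j < k, w.testBit j = true → c j = c' j) : apk c v k = apk c' w k := by
  induction k with
  | zero => rfl
  | succ k ih =>
    rw [apk_succ, apk_succ, ih (fun j l => h j (by omega)) fun j l => h' j (by omega), h k (by omega)]
    split_ifs with e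
    · rw [h' k (by omega) e]
    · rfl

theorem apk_map {F : ℕ → ℕ} (h : ∀ a b, F (a ^^^ b) = F a ^^^ F b) (c : ℕ → ℕ) (v k : ℕ) :
    F (apk c v k) = apk (fun j => F (c j)) v k := by
  have h0 : F 0 = 0 := by simpa using h 0 0
  induction k with
  | zero => exact h0
  | succ k ih => rw [apk_succ, apk_succ, h, ih]; split_ifs <;> simp [h0]

theorem apk_add (c c' : ℕ → ℕ) (v k : ℕ) : apk (fun j => c j ^^^ c' j) v k = apk c v k ^^^ apk c' v k := by
  induction k with
  | zero => simp [apk_zero]
  | succ k ih => simp only [apk_succ, ih]; split_ifs <;> simp [Nat.xor_assoc, Nat.xor_left_comm]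

theorem apk_lt {c : ℕ → ℕ} (h : ∀ j, c j < 4096) (v k : ℕ) : apk c v k < 4096 := by
  induction k with
  | zero => exact Nat.succ_pos _
  | succ k ih =>
    rw [apk_succ]
    exact Nat.xor_lt_two_pow (n := 12) (by split_ifs; exacts [h k, by decide]) ih

theorem apk_id : ∀ v < 4096, apk (fun j => 2 ^ j) v 12 = v := fun v hv =>
  (beq_iff _ _).1 ((allB_iff _ _).1 (by decide +kernel :
    allB 4096 (fun v => Nat.beq (apk (fun j => 2 ^ j) v 12) v) = true) v hv)

theorem apk_pow (c : ℕ → ℕ) {j k : ℕ} (h : j < k) : apk c (2 ^ j) k = c j := by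
  induction k with
  | zero => omega
  | succ k ih =>
    rw [apk_succ, Nat.testBit_two_pow]
    by_cases e : j = k
    · subst e
      have : apk c (2 ^ j) j = apk c 0 j := apk_congr (fun i l => by
        rw [Nat.testBit_two_pow_of_ne (by omega), Nat.zero_testBit]) fun _ _ _ => rfl
      have h0 : apk c 0 j = 0 := by simpa using apk_xor c 0 0 j
      simp [this, h0]
    · simp [e, ih (by omega)]

theorem col_lt (M j : ℕ) : col M j < 4096 := Nat.and_lt_two_pow (n := 12) _ (by decide)

theorem am_lt (M v : ℕ) : am M v < 4096 := by rw [am_eq]; exact apk_lt (col_lt M) _ _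

theorem am_xor (M v w : ℕ) : am M (v ^^^ w) = am M v ^^^ am M w := by simp only [am_eq, apk_xor]

theorem am_comp {M N K : ℕ} (h : ∀ j < 12, col K j = am M (col N j)) (v : ℕ) : am K v = am M (am N v) := by
  rw [am_eq N, apk_map (am_xor M), am_eq]
  exact apk_congr (fun _ _ => rfl) fun j l _ => h j l

/-- the number of `v < 2 ^ k` with `apk c v k = a` -/
noncomputable def cntk (c : ℕ → ℕ) (k : ℕ) : ℕ → ℕ :=
  Nat.rec (motive := fun _ => ℕ → ℕ) (fun a => ite' (Nat.beq a (nat_lit 0)) (nat_lit 1) (nat_lit 0))
    (fun j ih a => Nat.add (ih a) (force (Nat.xor (c j) a) ih)) k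

theorem cntk_eq (c : ℕ → ℕ) (k : ℕ) : ∀ a, cntk c k a =
    ((Finset.range (2 ^ k)).filter fun v => apk c v k = a).card := by
  induction k with
  | zero =>
    intro a
    change ite' (Nat.beq a 0) 1 0 = _
    rw [ite'_eq]
    simp only [beq_iff, apk_zero, pow_zero, Finset.range_one, Finset.filter_singleton, eq_comm (a := a)]
    split_ifs <;> rfl
  | succ k ih =>
    intro a
    change cntk c k a + force (c k ^^^ a) (cntk c k) = _
    rw [force_eq, ih, ih, pow_succ, mul_two, Finset.card_filter, Finset.card_filter, Finset.card_filter,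
      Finset.sum_range_add]
    congr 1 <;> refine Finset.sum_congr rfl fun v hv => ?_ <;> rw [Finset.mem_range] at hv
    · rw [apk_succ, Nat.testBit_lt_two_pow hv]; simp
    · rw [apk_succ, Nat.testBit_two_pow_add_eq, Nat.testBit_lt_two_pow hv,
        apk_congr (c' := c) (fun j l => Nat.testBit_two_pow_add_gt l v) fun _ _ _ => rfl]
      refine if_congr ⟨fun e => ?_, fun e => ?_⟩ rfl rfl
      · simp [e, ← Nat.xor_assoc]
      · simp [← e, ← Nat.xor_assoc]

/-- a bound for the number of common fixed vectors -/
noncomputable def fc (M N : ℕ) : ℕ := force M fun M => force N fun N =>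
  cntk (fun j => Nat.xor (Nat.xor (col M j) (2 ^ j)) (Nat.shiftLeft (Nat.xor (col N j) (2 ^ j)) 12)) 12 0

theorem card_le_fc (M N : ℕ) :
    ((Finset.range 4096).filter fun v => am M v = v ∧ am N v = v).card ≤ fc M N := by
  simp only [fc, force_eq, cntk_eq]
  refine Finset.card_le_card fun v hv => ?_
  rw [Finset.mem_filter] at hv ⊢
  refine ⟨hv.1, ?_⟩
  have e := apk_id v (Finset.mem_range.1 hv.1)
  change apk (fun j => (col M j ^^^ 2 ^ j) ^^^ ((col N j ^^^ 2 ^ j) <<< 12)) v 12 = 0
  rw [apk_add, ← apk_map (F := (· <<< 12)) (fun a b => Nat.shiftLeft_xor_distrib), apk_add, apk_add, ← am_eq,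
    ← am_eq, e, hv.2.1, hv.2.2]
  simp

/-! ### The search -/

noncomputable def mapA (f : ℕ → ℕ) (l : List ℕ) : List ℕ → (List ℕ → Bool) → Bool :=
  List.rec (motive := fun _ => List ℕ → (List ℕ → Bool) → Bool) (fun r k => k r)
    (fun a _ ih r k => force (f a) fun y => ih (y :: r) k) l

theorem mapA_eq (f : ℕ → ℕ) (l r : List ℕ) (k : List ℕ → Bool) : mapA f l r k = k ((l.map f).reverse ++ r) := by
  induction l generalizing r with
  | nil => rfl
  | cons a l ih =>
    change force (f a) (fun y => mapA f l (y :: r) k) = _
    rw [force_eq, ih]; simp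

noncomputable def filK (p : ℕ → Bool) (l : List ℕ) : (List ℕ → Bool) → Bool :=
  List.rec (motive := fun _ => (List ℕ → Bool) → Bool) (fun k => k [])
    (fun a _ ih k => ite' (p a) (ih fun r => k (a :: r)) (ih k)) l

theorem filK_eq (p : ℕ → Bool) (l : List ℕ) (k : List ℕ → Bool) : filK p l k = k (l.filter p) := by
  induction l generalizing k with
  | nil => rfl
  | cons a l ih =>
    change ite' (p a) (filK p l fun r => k (a :: r)) (filK p l k) = _
    rw [ih, ih, List.filter_cons]; cases p a <;> rfl

noncomputable def memL (l : List ℕ) (a : ℕ) : Bool := anyL l (Nat.beq a)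

theorem memL_iff {l : List ℕ} {a : ℕ} : memL l a = true ↔ a ∈ l := by simp [memL, anyL_iff, beq_iff]

noncomputable def dfs (m : ℕ → ℕ → ℕ) (good : List ℕ → Bool) (n : ℕ) : List ℕ → List ℕ → Bool :=
  Nat.rec (motive := fun _ => List ℕ → List ℕ → Bool) (fun _ _ => false) (fun _ ih X c => allL c fun u =>
    or' (anyL X fun x => force (m u x) fun y => and' (Nat.blt y u) (not' (memL X y)))
      (mapA (m u) X X fun Y => and' (good Y) (filK (fun w => and' (Nat.ble u w)
        (and' (not' (memL Y w)) (Nat.beq (m u w) (m w u)))) c (ih Y)))) n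

theorem dfs_succ (m : ℕ → ℕ → ℕ) (good : List ℕ → Bool) (n : ℕ) (X c : List ℕ) :
    dfs m good (n + 1) X c = allL c fun u =>
    or' (anyL X fun x => force (m u x) fun y => and' (Nat.blt y u) (not' (memL X y)))
      (mapA (m u) X X fun Y => and' (good Y) (filK (fun w => and' (Nat.ble u w)
        (and' (not' (memL Y w)) (Nat.beq (m u w) (m w u)))) c (dfs m good n Y))) := rfl

theorem dfs_sound {m : ℕ → ℕ → ℕ} {good : List ℕ → Bool} {S : Finset ℕ}
    (h : ∀ i ∈ S, ∀ j ∈ S, m i j ∈ S ∧ m i j = m j i) (n : ℕ) : ∀ X c, dfs m good n X c = true →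
      (∀ x ∈ X, x ∈ S) → (∀ s ∈ S, s ∉ X → s ∈ c) → (∃ s ∈ S, s ∉ X) →
      ∃ Y, good Y = true ∧ ∀ s, s ∈ S ↔ s ∈ Y := by
  induction n with
  | zero => intro X c e; cases e
  | succ n ih =>
    intro X c e h1 h2 h3
    obtain ⟨u, ⟨uS, uX⟩, hu⟩ := Set.exists_min_image {s | s ∈ S ∧ s ∉ X} id
      (S.finite_toSet.subset fun _ h => h.1) h3
    have := (allL_iff _ _).1 (dfs_succ .. ▸ e) u (h2 u uS uX)
    simp only [or'_eq_true, anyL_iff, force_eq, and'_eq_true, blt_iff, not'_eq_true, memL_iff, mapA_eq,
      filK_eq] at this
    rcases this with ⟨x, hx, l, k⟩ | ⟨g, r⟩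
    · exact absurd (hu _ ⟨(h u uS x (h1 x hx)).1, k⟩) (not_le.2 l)
    have h4 : ∀ x ∈ (X.map (m u)).reverse ++ X, x ∈ S := fun x hx => by
      simp only [List.mem_append, List.mem_reverse, List.mem_map] at hx
      rcases hx with ⟨y, hy, rfl⟩ | hx
      exacts [(h u uS y (h1 y hy)).1, h1 x hx]
    by_cases h5 : ∃ s ∈ S, s ∉ (X.map (m u)).reverse ++ X
    · refine ih _ _ r h4 (fun s hs k => ?_) h5
      have k' : s ∉ X := fun l => k (List.mem_append_right _ l)
      simp only [List.mem_filter, and'_eq_true, ble_iff, not'_eq_true, memL_iff, beq_iff]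
      exact ⟨h2 s hs k', hu s ⟨hs, k'⟩, k, (h u uS s hs).2⟩
    · exact ⟨_, g, fun s => ⟨fun hs => by_contra fun k => h5 ⟨s, hs, k⟩, h4 s⟩⟩

/-! ### The tables -/

/-- entry `i` of width `w` -/
def ent (w T i : ℕ) : ℕ := Nat.land (Nat.shiftRight T (Nat.mul w i)) (Nat.pred (Nat.shiftLeft 1 w))

/-- a table with entry `f i` at place `p i` -/
noncomputable def mkT (w n : ℕ) (p f : ℕ → ℕ) : ℕ := Nat.rec (motive := fun _ => ℕ) (nat_lit 0)
  (fun i ih => Nat.lor (Nat.shiftLeft (f i) (Nat.mul w (p i))) ih) n

/-- the matrices of the representatives of `T/Q` -/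
def L0 : ℕ := 0x91bdb6fc01031861c003601b00900600300191bdbffdb1031871c303601b009006003001912dbffed1021871c503601b009006003001912db6ff61021861c603601b009006003001909d80ff61011801c603601b009006003001909d89fed1011811c503601b009006003001900d89fdb1001811c303601b009006003001900d80fc01001801c003601b00900600300191bdb6b6d10318614503f01200900700200191bdbfb7f10318714703f012009007002001912dbfb4010218714003f012009007002001912db6b5210218614203f012009007002001909d80b7f10118014703f012009007002001909d89b6d10118114503f012009007002001900d89b5210018114203f012009007002001900d80b4010018014003f01200900700200191bdb66db1031860c303f01b00900700300191bdbf6c01031870c003f01b009007003001912dbf6ff1021870c703f01b009007003001912db66e41021860c403f01b009007003001909d806ff1011800c703f01b009007003001909d896e41011810c403f01b009007003001900d896db1001810c303f01b009007003001900d806c01001800c003f01b00900700300191bdb627610318604603601200900600200191bdbf264103187044036012009006002001912dbf252102187042036012009006002001912db6240102186040036012009006002001909d802761011800460360120090060020019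09d89264101181044036012009006002001900d89252100181042036012009006002001900d8024010018004003601200900600200191b4adfc01030851c002d01b00900500300191b4a4fdb1030841c302d01b0090050030019124adfed1020851c502d01b0090050030019124a4ff61020841c602d01b009005003001909489ff61010811c602d01b009005003001909480fed1010801c502d01b009005003001900489fdb1000811c302d01b009005003001900480fc01000801c002d01b00900500300191b4adb6d10308514502d01200900500200191b4a4b7f10308414702d0120090050020019124adb4010208514002d0120090050020019124a4b5210208414202d012009005002001909489b7f10108114702d012009005002001909480b6d10108014502d012009005002001900489b5210008114202d012009005002001900480b4010008014002d01200900500200191b4ad6db1030850c302401b00900400300191b4a46c01030840c002401b0090040030019124ad6ff1020850c702401b0090040030019124a46e41020840c402401b0090040030019094896ff1010810c702401b0090040030019094806e41010800c402401b0090040030019004896db1000810c302401b0090040030019004806c01000800c002401b00900400300191b4ad27610308504602401200900400200191b4a42641030840440240120090040020019124ad2521020850420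240120090040020019124a4240102084040024012009004002001909489276101081046024012009004002001909480264101080044024012009004002001900489252100081042024012009004002001900480240100080040024012009004002001818c30e001031861c0030018008006003001818c38e181031871c3030018008006003001810c38e281021871c5030018008006003001810c30e301021861c6030018008006003001808c00e301011801c6030018008006003001808c08e281011811c5030018008006003001800c08e181001811c3030018008006003001800c00e001001801c0030018008006003001818c30a28103186145038010008007002001818c38a38103187147038010008007002001810c38a00102187140038010008007002001810c30a10102186142038010008007002001808c00a38101180147038010008007002001808c08a28101181145038010008007002001800c08a10100181142038010008007002001800c00a00100180140038010008007002001818c306181031860c3038018008007003001818c386001031870c0038018008007003001810c386381021870c7038018008007003001810c306201021860c4038018008007003001808c006381011800c7038018008007003001808c086201011810c4038018008007003001800c086181001810c3038018008007003001800c006001001800c00380180080070030018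18c30230103186046030010008006002001818c38220103187044030010008006002001810c38210102187042030010008006002001810c30200102186040030010008006002001808c00230101180046030010008006002001808c08220101181044030010008006002001800c08210100181042030010008006002001800c00200100180040030010008006002001818428e001030851c0028018008005003001818420e181030841c3028018008005003001810428e281020851c5028018008005003001810420e301020841c6028018008005003001808408e301010811c6028018008005003001808400e281010801c5028018008005003001800408e181000811c3028018008005003001800400e001000801c0028018008005003001818428a28103085145028010008005002001818420a38103084147028010008005002001810428a00102085140028010008005002001810420a10102084142028010008005002001808408a38101081147028010008005002001808400a28101080145028010008005002001800408a10100081142028010008005002001800400a001000801400280100080050020018184286181030850c30200180080040030018184206001030840c00200180080040030018104286381020850c70200180080040030018104206201020840c40200180080040030018084086381010810c70200180080040030018084006201010800c40200180080040030018004086181000810c30200180080040030018004006001000800c0020018008004003001818428230103085046020010008004002001818420220103084044020010008004002001810428210102085042020010008004002001810420200102084040020010008004002001808408230101081046020010008004002001808400220101080044020010008004002001800408210100081042020010008004002001800400200100080040020010008004002001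

/-- a packed matrix with given columns -/
noncomputable def pk (f : ℕ → ℕ) : ℕ := mkT 12 12 id f

noncomputable def hs (M a b : ℕ) : ℕ := Nat.xor (am M a) (Nat.shiftRight (am M b) 8)

noncomputable def mulI (L U K i j : ℕ) : ℕ := force (ent 144 L i) fun M => force (ent 24 K j) fun k =>
  ent 8 U (hs M (Nat.land k 4095) (Nat.shiftRight k 12))

def cf (C i : ℕ) : ℕ := Nat.shiftLeft 64 (Nat.mul 2 (ent 2 C i))

noncomputable def goodL (C : ℕ) (X : List ℕ) : Bool := force X.length fun n =>
  or' (anyL X fun u => and' (not' (Nat.beq u 0)) (Nat.blt (Nat.mul n (cf C u)) 4096))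
    (and' (Nat.ble n 16) (and' (memL X 1) (or' (memL X 2) (memL X 18))))

def C0 : ℕ := 0x5005000005050055005500555554

/-- the square is the identity -/
noncomputable def invB (M : ℕ) : Bool := allLT 12 fun j => Nat.beq (am M (col M j)) (2 ^ j)

theorem am_pow (M : ℕ) {j : ℕ} (h : j < 12) : am M (2 ^ j) = col M j := by rw [am_eq, apk_pow _ h]

theorem invB_of {M : ℕ} (h : ∀ v < 4096, am M (am M v) = v) : invB M = true :=
  (allLT_iff _ _).2 fun j l => (beq_iff _ _).2 (by
    rw [← am_pow M l]; exact h _ (Nat.pow_lt_pow_right (n := 12) one_lt_two l))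

noncomputable def chkA (T C L U K : ℕ) : Bool :=
  and' (allB 128 fun i => and' (Nat.beq (ent 144 L i) (ent 144 L0 i)) (and' (Nat.beq (cf C i) (cf C0 i))
    (allLT 12 fun j => Nat.beq (col (ent 144 L (128 + i)) j) (am (ent 144 L0 i) (col T j)))))
  (and' (allB 256 fun i => force (ent 24 K i) fun k => force (ent 144 L i) fun M =>
    and' (Nat.beq (Nat.land k 4095) (am M 3868)) (and' (Nat.beq (Nat.shiftRight k 12) (am M 3109))
      (Nat.beq (ent 8 U (hs M 3868 3109)) i)))
  (and' (allB 128 fun i => force (ent 144 L (128 + i)) fun M => or' (not' (invB M))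
    (Nat.ble (fc M M) (cf C (128 + i))))
  (filK (fun i => and' (Nat.blt 0 i) (invB (ent 144 L i))) (List.range 256) (dfs (mulI L U K) (goodL C) 6 [0]))))

noncomputable def chkT (T C : ℕ) : Bool :=
  force (Nat.lor L0 (Nat.shiftLeft (mkT 144 128 id fun i => pk fun j => am (ent 144 L0 i) (col T j)) 18432)) fun L =>
  force (mkT 8 256 (fun i => hs (ent 144 L i) 3868 3109) id) fun U =>
  force (mkT 24 256 id fun i => Nat.lor (am (ent 144 L i) 3868) (Nat.shiftLeft (am (ent 144 L i) 3109) 12)) fun K =>
  chkA T C L U K

theorem chk0 : allB 128 (fun i => force (ent 144 L0 i) fun M => or' (Nat.beq i 0) (or' (not' (invB M))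
    (Nat.ble (fc M M) (cf C0 i)))) = true := by decide +kernel

theorem chkE : allL [2, 18] (fun w => and' (Nat.ble (fc (ent 144 L0 1) (ent 144 L0 w)) 64) (allB 4096 fun v =>
    force (Nat.xor (am (ent 144 L0 1) v) v) fun x => Nat.beq (am (ent 144 L0 w) x) x)) = true := by
  decide +kernel

/-- the conclusion of the search -/
def Tab (T L : ℕ) : Prop :=
  (∀ i < 128, ent 144 L i = ent 144 L0 i ∧ ∀ v, am (ent 144 L (128 + i)) v = am (ent 144 L0 i) (am T v)) ∧
  (∀ i < 256, ∀ j < 256, (∀ v < 4096, am (ent 144 L i) v = am (ent 144 L j) v) → i = j) ∧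
  ∀ S : Finset ℕ, (∀ i ∈ S, i < 256) → 0 ∈ S → (∃ i ∈ S, i ≠ 0) →
    (∀ i ∈ S, ∀ j ∈ S, ∃ k ∈ S, ∀ v < 4096, am (ent 144 L k) v = am (ent 144 L i) (am (ent 144 L j) v) ∧
      am (ent 144 L k) v = am (ent 144 L j) (am (ent 144 L i) v)) →
    (∀ i ∈ S, ∀ v < 4096, am (ent 144 L i) (am (ent 144 L i) v) = v) →
    ∃ u ∈ S, ∃ w ∈ S, u ≠ 0 ∧
      (∀ v < 4096, am (ent 144 L w) (am (ent 144 L u) v ^^^ v) = am (ent 144 L u) v ^^^ v) ∧
      S.card * ((Finset.range 4096).filter fun v =>
        am (ent 144 L u) v = v ∧ am (ent 144 L w) v = v).card < 4096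

theorem tab_of_chkA {T C L U K : ℕ} (h : chkA T C L U K = true) : Tab T L := by
  simp only [chkA, and'_eq_true, allB_iff, allLT_iff, beq_iff, force_eq, or'_eq_true, not'_eq_true, ble_iff,
    filK_eq] at h
  obtain ⟨h1, h2, h3, h4⟩ := h
  refine ⟨fun i l => ⟨(h1 i l).1, am_comp (h1 i l).2.2⟩, fun i li j lj e => ?_, fun S s1 s2 s3 s4 s5 => ?_⟩
  · rw [← (h2 i li).2.2, ← (h2 j lj).2.2, hs, hs, e _ (by decide), e _ (by decide)]
  have m : ∀ i ∈ S, ∀ j ∈ S, ∀ k ∈ S, (∀ v < 4096, am (ent 144 L k) v = am (ent 144 L i) (am (ent 144 L j) v)) →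
      mulI L U K i j = k := fun i _ j hj k hk e => by
    rw [← (h2 k (s1 k hk)).2.2, hs, e _ (by decide), e _ (by decide), mulI, force_eq, force_eq,
      (h2 j (s1 j hj)).1, (h2 j (s1 j hj)).2.1, hs]
  obtain ⟨Y, g, e⟩ := dfs_sound (S := S) (fun i hi j hj => by
    obtain ⟨k, hk, e⟩ := s4 i hi j hj
    rw [m i hi j hj k hk fun v l => (e v l).1, m j hj i hi k hk fun v l => (e v l).2]
    exact ⟨hk, rfl⟩) _ _ _ h4 (by simpa using s2)
    (fun s hs n => List.mem_filter.2 ⟨List.mem_range.2 (s1 s hs), (and'_eq_true _ _).2
      ⟨(blt_iff _ _).2 (Nat.pos_of_ne_zero (by simpa using n)), invB_of (s5 s hs)⟩⟩) (by simpa using s3)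
  have c : S.card ≤ Y.length :=
    (Finset.card_le_card fun s hs => List.mem_toFinset.2 ((e s).1 hs)).trans (List.toFinset_card_le Y)
  simp only [goodL, force_eq, or'_eq_true, anyL_iff, and'_eq_true, not'_eq_true, beq_iff, blt_iff, ble_iff,
    memL_iff, ← e] at g
  rcases g with ⟨u, hu, u0, l⟩ | ⟨l, o1, o2⟩
  · refine ⟨u, hu, u, hu, u0, fun v hv => by rw [am_xor, s5 u hu v hv, Nat.xor_comm],
      (Nat.mul_le_mul c ((card_le_fc _ _).trans ?_)).trans_lt l⟩
    have i := invB_of (s5 u hu)
    by_cases lt : u < 128
    · have := (allB_iff _ _).1 chk0 u lt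
      simp only [force_eq, or'_eq_true, beq_iff, not'_eq_true, ble_iff, ← (h1 u lt).1, ← (h1 u lt).2.1] at this
      exact (this.resolve_left u0).resolve_left (not_not.2 i)
    · obtain ⟨k, rfl⟩ := Nat.exists_eq_add_of_le (not_lt.1 lt)
      exact (h3 k (by have := s1 _ hu; omega)).resolve_left (not_not.2 i)
  · obtain ⟨w, hw, w1, w2⟩ : ∃ w ∈ S, w < 128 ∧ w ∈ [2, 18] :=
      o2.elim (fun h => ⟨2, h, by decide⟩) fun h => ⟨18, h, by decide⟩
    have := (allL_iff _ _).1 chkE w w2
    simp only [force_eq, and'_eq_true, allB_iff, beq_iff, ble_iff, ← (h1 w w1).1, ← (h1 1 (by decide)).1] at this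
    exact ⟨1, o1, w, hw, one_ne_zero, this.2,
      (Nat.mul_le_mul (c.trans l) ((card_le_fc _ _).trans this.1)).trans_lt (by decide)⟩

theorem tab_of {T C : ℕ} (h : chkT T C = true) : ∃ L, Tab T L := by
  simp only [chkT, force_eq] at h
  exact ⟨_, tab_of_chkA h⟩

end Cfsg.Agent.L10
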