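import Cfsg.Agent.L10.P3T

/-! # S3320, PART 3: the search for the eight possible actions of `t`. -/

set_option autoImplicit false

namespace Cfsg.Agent.L10

open Cfsg.Agent.Comp

theorem chkT0 : chkT 0x20400200004080040800010008100002001
    0x20000000020000000020000000020000000000000000000000000000000000005005000005050055005500555554 = true := by
  decide +kernel

theorem chkT1 : chkT 0x20418208004083041800010008100002001
    C0 = true := by
  decide +kernel

theorem chkT2 : chkT 0x20408210004081042800010008100002001
    0x80000000080000000080000000080000000000000000000000000000000000005005000005050055005500555554 = true := by
  decide +kernel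

theorem chkT3 : chkT 0x20410218004082043800010008100002001
    C0 = true := by
  decide +kernel

theorem chkT4 : chkT 0x20409212004088050800010008100002001
    C0 = true := by
  decide +kernel

theorem chkT5 : chkT 0x2041121a00408b051800010008100002001
    0x50000000050000000050000000050000000000000000000000000000000000005005000005050055005500555554 = true := by
  decide +kernel

theorem chkT6 : chkT 0x20401202004089052800010008100002001
    C0 = true := by
  decide +kernel

theorem chkT7 : chkT 0x2041920a00408a053800010008100002001
    0x50000000050000000050000000050000000000000000000000000000000000005005000005050055005500555554 = true := by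
  decide +kernel

/-- the possible matrices of `t` -/
def opts : List ℕ := [0x20400200004080040800010008100002001,
  0x20418208004083041800010008100002001,
  0x20408210004081042800010008100002001,
  0x20410218004082043800010008100002001,
  0x20409212004088050800010008100002001,
  0x2041121a00408b051800010008100002001,
  0x20401202004089052800010008100002001,
  0x2041920a00408a053800010008100002001]

theorem tab {T : ℕ} (h : T ∈ opts) : ∃ L, Tab T L := by
  simp only [opts, List.mem_cons, List.not_mem_nil, or_false] at h
  rcases h with rfl | rfl | rfl | rfl | rfl | rfl | rfl | rfl
  exacts [tab_of chkT0, tab_of chkT1, tab_of chkT2, tab_of chkT3, tab_of chkT4, tab_of chkT5, tab_of chkT6, tab_of chkT7]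

end Cfsg.Agent.L10
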